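import Mathlib
import Groth.Agent.RelFrobEt.Root

/-!
Extractions of `p`-th roots: a local criterion, and the quotients of Frobenius of a smooth algebra.
-/

set_option autoImplicit false
set_option backward.isDefEq.respectTransparency false
set_option linter.style.haveILetI false
set_option linter.unusedSectionVars false

universe u

open CategoryTheory AlgebraicGeometry

namespace Groth.Agent.PthRootQuot

/-- A ring map that locally has a basis of monomials in `p`-th roots is an extraction of roots. -/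
theorem isPthRoot_of_local (p : ℕ) [Fact p.Prime] {C B : Type u} [CommRing C] [CommRing B] (q : C →+* B)
    (h : ∀ x : PrimeSpectrum C, ∃ f, f ∉ x.asIdeal ∧ ∃ (n : ℕ) (a : Fin n → Localization.Away f)
      (y : Fin n → Localization.Away (q f)), (∀ i, y i ^ p = Localization.awayMap q f (a i)) ∧
        Function.Bijective fun c : (Fin n → Fin p) → Localization.Away f =>
          ∑ s, Localization.awayMap q f (c s) * ∏ i, y i ^ (s i : ℕ)) :
    Quiet.IsPthRoot p (Spec.map (CommRingCat.ofHom q)) := by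
  intro x
  obtain ⟨f, hfx, n, a, y, hy, hb⟩ := h x
  let φ := Spec.map (CommRingCat.ofHom q)
  let U : (Spec (CommRingCat.of C)).affineOpens :=
    ⟨PrimeSpectrum.basicOpen f, IsAffineOpen.Spec_basicOpen (R := CommRingCat.of C) f⟩
  refine ⟨U, hfx, U.2.preimage φ, ?_⟩
  have hpre : φ ⁻¹ᵁ U.1 = PrimeSpectrum.basicOpen (q f) := rfl
  letI := (φ.app U.1).hom.toAlgebra
  refine ⟨n, ?_⟩
  let R₁ := Γ(Spec (CommRingCat.of C), U.1)
  let R₂ := Γ(Spec (CommRingCat.of B), φ ⁻¹ᵁ U.1)
  letI algT₁ : Algebra C R₁ := ((Scheme.ΓSpecIso (CommRingCat.of C)).inv ≫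
    (Spec (CommRingCat.of C)).presheaf.map (homOfLE (le_top (a := U.1))).op).hom.toAlgebra
  letI algT₂ : Algebra B R₂ := ((Scheme.ΓSpecIso (CommRingCat.of B)).inv ≫
    (Spec (CommRingCat.of B)).presheaf.map (homOfLE (le_top (a := φ ⁻¹ᵁ U.1))).op).hom.toAlgebra
  haveI : IsLocalization.Away f R₁ := RelFrobEt.away_sections (R := CommRingCat.of C) f _ rfl
  haveI : IsLocalization.Away (q f) R₂ := RelFrobEt.away_sections (R := CommRingCat.of B) (q f) _ hpre
  let e₁ : Localization.Away f ≃ₐ[C] R₁ :=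
    IsLocalization.algEquiv (Submonoid.powers f) (Localization.Away f) R₁
  let e₂ : Localization.Away (q f) ≃ₐ[B] R₂ :=
    IsLocalization.algEquiv (Submonoid.powers (q f)) (Localization.Away (q f)) R₂
  have hcomm : ∀ z, (φ.app U.1).hom (e₁ z) = e₂ (Localization.awayMap q f z) := by
    suffices (φ.app U.1).hom.comp (e₁ : _ →+* R₁) = (e₂ : _ →+* R₂).comp (Localization.awayMap q f) from
      fun z => RingHom.congr_fun this z
    refine IsLocalization.ringHom_ext (Submonoid.powers f) (RingHom.ext fun z => ?_)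
    show (φ.app U.1).hom (e₁ (algebraMap C _ z)) = e₂ (Localization.awayMap q f (algebraMap C _ z))
    rw [e₁.commutes, Localization.awayMap, IsLocalization.Away.map, IsLocalization.map_eq, e₂.commutes]
    have h := congrArg (fun m => m.hom z)
      (show (Scheme.ΓSpecIso (CommRingCat.of C)).inv ≫
          (Spec (CommRingCat.of C)).presheaf.map (homOfLE (le_top (a := U.1))).op ≫ φ.app U.1 =
        CommRingCat.ofHom q ≫ (Scheme.ΓSpecIso (CommRingCat.of B)).inv ≫
          (Spec (CommRingCat.of B)).presheaf.map (homOfLE (le_top (a := φ ⁻¹ᵁ U.1))).op by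
        rw [Scheme.Hom.naturality, ← Category.assoc, ← Category.assoc, Scheme.ΓSpecIso_inv_naturality]
        rfl)
    exact h
  refine RelFrobEt.isRootTower_of_basis p (Fact.out : p.Prime).pos n R₁ R₂ (fun i => e₁ (a i))
    (fun i => e₂ (y i)) (fun i => by rw [← map_pow, hy]; exact (hcomm _).symm) ?_
  have hc : (fun c : (Fin n → Fin p) → R₁ => ∑ s, algebraMap R₁ R₂ (c s) * ∏ i, e₂ (y i) ^ (s i : ℕ)) =
      e₂ ∘ (fun c : (Fin n → Fin p) → Localization.Away f =>
        ∑ s, Localization.awayMap q f (c s) * ∏ i, y i ^ (s i : ℕ)) ∘ (fun c s => e₁.symm (c s)) := by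
    funext c
    simp only [Function.comp_apply, map_sum]
    refine Finset.sum_congr rfl fun s _ => ?_
    rw [map_mul, map_prod]
    congr 1
    · show (φ.app U.1).hom (c s) = _
      rw [← hcomm, e₁.apply_symm_apply]
    · exact Finset.prod_congr rfl fun i _ => (map_pow e₂ _ _).symm
  rw [hc]
  exact e₂.bijective.comp (hb.comp ⟨fun c d h => funext fun s => e₁.symm.injective (congrFun h s),
    fun d => ⟨fun s => e₁ (d s), funext fun s => e₁.symm_apply_apply _⟩⟩)

/-- Localising a quotient at the image of a power. -/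
lemma exists_loc {P : Type u} [CommRing P] (K : Ideal P) (f : P) (e : ℕ) (he : e ≠ 0) (g : P ⧸ K)
    (hg : g = Ideal.Quotient.mk K (f ^ e)) :
    ∃ β : Localization.Away f →+* Localization.Away g,
      (∀ a, β (algebraMap P _ a) = algebraMap (P ⧸ K) _ (Ideal.Quotient.mk K a)) ∧ Function.Surjective β ∧
        RingHom.ker β = K.map (algebraMap P (Localization.Away f)) := by
  have hu : IsUnit (((algebraMap (P ⧸ K) (Localization.Away g)).comp (Ideal.Quotient.mk K)) f) := by
    have h1 := IsLocalization.Away.algebraMap_isUnit (S := Localization.Away g) g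
    rw [hg, map_pow, map_pow, isUnit_pow_iff he] at h1
    subst hg
    exact h1
  let β : Localization.Away f →+* Localization.Away g := IsLocalization.Away.lift f hu
  have hβ : ∀ a, β (algebraMap P _ a) = algebraMap (P ⧸ K) _ (Ideal.Quotient.mk K a) := fun a =>
    IsLocalization.Away.lift_eq f hu a
  refine ⟨β, hβ, fun z => ?_, le_antisymm (fun x hx => ?_) (Ideal.map_le_iff_le_comap.2 fun a ha => ?_)⟩
  · obtain ⟨⟨b, _, k, rfl⟩, hb⟩ := IsLocalization.surj (Submonoid.powers g) z
    obtain ⟨b, rfl⟩ := Ideal.Quotient.mk_surjective b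
    refine ⟨IsLocalization.mk' _ b (⟨(f ^ e) ^ k, ⟨e * k, pow_mul f e k⟩⟩ : Submonoid.powers f), ?_⟩
    have h2 := congrArg β (IsLocalization.mk'_spec (Localization.Away f) b
      (⟨(f ^ e) ^ k, ⟨e * k, pow_mul f e k⟩⟩ : Submonoid.powers f))
    rw [map_mul, hβ, hβ] at h2
    refine (((IsLocalization.Away.algebraMap_isUnit (S := Localization.Away g) g).pow k).mul_left_inj).1 ?_
    have hb' : z * algebraMap (P ⧸ K) (Localization.Away g) g ^ k =
        algebraMap (P ⧸ K) (Localization.Away g) (Ideal.Quotient.mk K b) := by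
      rw [← map_pow]; exact hb
    rw [hb', ← h2]
    congr 1
    rw [← map_pow, hg, map_pow (Ideal.Quotient.mk K) (f ^ e) k]
  · obtain ⟨a, s, rfl⟩ := IsLocalization.exists_mk'_eq (Submonoid.powers f) x
    have h2 := congrArg β (IsLocalization.mk'_spec (Localization.Away f) a s)
    rw [map_mul, RingHom.mem_ker.1 hx, zero_mul, hβ, eq_comm,
      IsLocalization.map_eq_zero_iff (Submonoid.powers g)] at h2
    obtain ⟨⟨_, k, rfl⟩, hk⟩ := h2
    rw [IsLocalization.mk'_mem_map_algebraMap_iff]
    refine ⟨(f ^ e) ^ k, ⟨e * k, pow_mul f e k⟩, ?_⟩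
    rw [← Ideal.Quotient.eq_zero_iff_mem, map_mul, map_pow, ← hg]
    exact hk
  · rw [Ideal.mem_comap, RingHom.mem_ker, hβ, Ideal.Quotient.eq_zero_iff_mem.2 ha, map_zero]

section Frobenius

variable (p : ℕ) [Fact p.Prime] (k : Type u) [Field k] [CharP k p] [PerfectRing k p] (P : Type u) [CommRing P]
  [CharP P p] [Algebra k P] [Algebra.Smooth k P] (I : Ideal P)

include k in
/-- Frobenius of a smooth algebra, on quotients, is an extraction of roots. -/
theorem isPthRoot_quotient :
    Quiet.IsPthRoot p (Spec.map (CommRingCat.ofHom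
      (Ideal.quotientMap (I.map (frobenius P p)) (frobenius P p) Ideal.le_comap_map))) := by
  refine isPthRoot_of_local p _ fun x => ?_
  obtain ⟨s, hs, hstd⟩ := Algebra.Smooth.exists_span_eq_top_isStandardSmooth k P
  obtain ⟨f, hfs, hfx⟩ : ∃ f ∈ s, f ∉ x.asIdeal.comap (Ideal.Quotient.mk I) := by
    by_contra h
    push Not at h
    exact (Ideal.comap_ne_top _ x.2.ne_top) (eq_top_iff.2 (hs ▸ Ideal.span_le.2 h))
  haveI := hstd f hfs
  obtain ⟨n, g, hg, hget⟩ := RingHom.IsStandardSmooth.exists_etale_mvPolynomial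
    (RingHom.isStandardSmooth_algebraMap.2 ‹Algebra.IsStandardSmooth k (Localization.Away f)›)
  letI := g.toAlgebra
  haveI : Algebra.Etale (MvPolynomial (Fin n) k) (Localization.Away f) := hget
  let x₀ := x.asIdeal.comap (Ideal.Quotient.mk I)
  haveI : x₀.IsPrime := x.2.comap _
  haveI : Nontrivial (Localization.Away f) :=
    (IsLocalization.lift (S := Localization.Away f) (M := Submonoid.powers f)
      (g := algebraMap P (Localization.AtPrime x₀)) fun y => by
      obtain ⟨y, m, rfl⟩ := y
      exact IsLocalization.map_units (Localization.AtPrime x₀)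
        (⟨f ^ m, fun h => hfx (‹x₀.IsPrime›.mem_of_pow_mem m h)⟩ : x₀.primeCompl)).domain_nontrivial
  haveI : CharP (Localization.Away f) p := (CharP.charP_iff_prime_eq_zero Fact.out).mpr
    (by rw [← map_natCast (algebraMap P (Localization.Away f)), CharP.cast_eq_zero, map_zero])
  have hb := RelFrobEt.frobenius_basis (p := p) (k := k) n (Localization.Away f)
  set X' : Fin n → Localization.Away f := fun i =>
    algebraMap (MvPolynomial (Fin n) k) (Localization.Away f) (MvPolynomial.X i)
  set q := Ideal.quotientMap (I.map (frobenius P p)) (frobenius P p) Ideal.le_comap_map with hq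
  set f₁ := Ideal.Quotient.mk I f with hf₁
  have hqf : q f₁ = Ideal.Quotient.mk _ (f ^ p) := rfl
  obtain ⟨α, hα, hαs, hαk⟩ := exists_loc I f 1 one_ne_zero f₁ (by rw [hf₁, pow_one])
  obtain ⟨β, hβ, hβs, hβk⟩ := exists_loc (I.map (frobenius P p)) f p (Fact.out : p.Prime).ne_zero (q f₁) hqf
  have hcomm : ∀ l, Localization.awayMap q f₁ (α l) = β (l ^ p) := by
    suffices (Localization.awayMap q f₁).comp α = β.comp (frobenius _ p) from
      fun l => RingHom.congr_fun this l
    refine IsLocalization.ringHom_ext (Submonoid.powers f) (RingHom.ext fun a => ?_)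
    show Localization.awayMap q f₁ (α (algebraMap P _ a)) = β (algebraMap P _ a ^ p)
    rw [hα, ← map_pow, hβ, Localization.awayMap, IsLocalization.Away.map, IsLocalization.map_eq]
    rfl
  refine ⟨f₁, hfx, n, fun i => α (X' i), fun i => β (X' i), fun i => by rw [hcomm, map_pow], ?_⟩
  set Ψ := fun c : (Fin n → Fin p) → Localization.Away f => ∑ s, c s ^ p * ∏ i, X' i ^ (s i : ℕ) with hΨ
  have hΦ : ∀ c₀, (∑ s, Localization.awayMap q f₁ (α (c₀ s)) * ∏ i, β (X' i) ^ (s i : ℕ)) = β (Ψ c₀) :=
    fun c₀ => by simp only [hΨ, map_sum, map_mul, map_prod, map_pow, hcomm]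
  have hadd : ∀ c d, Ψ (c + d) = Ψ c + Ψ d := fun c d => by
    simp only [hΨ, Pi.add_apply, add_pow_char, add_mul, Finset.sum_add_distrib]
  refine ⟨fun c d h => ?_, fun z => ?_⟩
  · choose c₀ hc₀ using fun s => hαs (c s)
    choose d₀ hd₀ using fun s => hαs (d s)
    simp only [← hc₀, ← hd₀, hΦ] at h
    have hJ : ∀ z ∈ (I.map (frobenius P p)).map (algebraMap P (Localization.Away f)), ∀ l,
        ∃ e, (∀ s, e s ∈ I.map (algebraMap P (Localization.Away f))) ∧ Ψ e = z * l := by
      intro z hz
      rw [Ideal.map_map] at hz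
      induction hz using Submodule.span_induction with
      | mem z hz =>
        obtain ⟨i, hi, rfl⟩ := hz
        intro l
        obtain ⟨e, he⟩ := hb.2 l
        refine ⟨fun s => algebraMap P _ i * e s, fun s => Ideal.mul_mem_right _ _ (Ideal.mem_map_of_mem _ hi), ?_⟩
        rw [← he]
        simp only [hΨ, Finset.mul_sum, RingHom.comp_apply, frobenius_def, map_pow, mul_pow, mul_assoc, X']
      | zero =>
        exact fun l => ⟨0, fun s => Submodule.zero_mem _, by simp [hΨ, (Fact.out : p.Prime).ne_zero]⟩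
      | add a b _ _ ha hb =>
        intro l
        obtain ⟨e, he, he'⟩ := ha l
        obtain ⟨e', he1, he2⟩ := hb l
        exact ⟨e + e', fun s => Submodule.add_mem _ (he s) (he1 s), by rw [hadd, he', he2, add_mul]⟩
      | smul r a _ ha =>
        intro l
        obtain ⟨e, he, he'⟩ := ha (r * l)
        exact ⟨e, he, by rw [he', smul_eq_mul]; ring⟩
    have hmem : Ψ c₀ - Ψ d₀ ∈ (I.map (frobenius P p)).map (algebraMap P (Localization.Away f)) := by
      rw [← hβk, RingHom.mem_ker, map_sub, h, sub_self]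
    obtain ⟨e, he, he'⟩ := hJ _ hmem 1
    have hce : c₀ = d₀ + e := hb.1 (by
      change Ψ c₀ = Ψ (d₀ + e)
      rw [hadd, he', mul_one, add_sub_cancel])
    funext s
    rw [← hc₀, ← hd₀, hce, Pi.add_apply, map_add, (hαk ▸ he s : e s ∈ RingHom.ker α), add_zero]
  · obtain ⟨l, rfl⟩ := hβs z
    obtain ⟨c₀, hc₀⟩ := hb.2 l
    exact ⟨fun s => α (c₀ s), (hΦ c₀).trans (congrArg β hc₀)⟩

end Frobenius

/-- A quotient of a faithfully flat map. -/
theorem quotientMap_ff {R S : Type u} [CommRing R] [CommRing S] (φ : R →+* S) (hφ : φ.FaithfullyFlat)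
    (I : Ideal R) : (Ideal.quotientMap (I.map φ) φ Ideal.le_comap_map).FaithfullyFlat := by
  letI := φ.toAlgebra
  haveI : Module.FaithfullyFlat R S := hφ
  refine RingHom.FaithfullyFlat.iff_flat_and_comap_surjective.2 ⟨?_, fun Q => ?_⟩
  · change (algebraMap (R ⧸ I) (S ⧸ I.map (algebraMap R S))).Flat
    rw [RingHom.flat_algebraMap_iff]
    let e : (S ⧸ I.map (algebraMap R S)) ≃ₗ[R] TensorProduct R (R ⧸ I) S :=
      ((Algebra.TensorProduct.quotIdealMapEquivTensorQuot S I).toLinearEquiv.restrictScalars R).trans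
        (TensorProduct.comm R S (R ⧸ I))
    exact Module.Flat.of_linearEquiv (e.extendScalarsOfSurjective (S := R ⧸ I) Ideal.Quotient.mk_surjective)
  · obtain ⟨Q', hQ'⟩ := (RingHom.FaithfullyFlat.iff_flat_and_comap_surjective.1 hφ).2
      ⟨Q.asIdeal.comap (Ideal.Quotient.mk I), Q.2.comap _⟩
    have hQ : Q'.asIdeal.comap φ = Q.asIdeal.comap (Ideal.Quotient.mk I) := congrArg PrimeSpectrum.asIdeal hQ'
    have hle : RingHom.ker (Ideal.Quotient.mk (I.map φ)) ≤ Q'.asIdeal := by
      rw [Ideal.mk_ker, Ideal.map_le_iff_le_comap, hQ]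
      exact fun i hi => by rw [Ideal.mem_comap, Ideal.Quotient.eq_zero_iff_mem.2 hi]; exact Submodule.zero_mem _
    refine ⟨⟨Q'.asIdeal.map (Ideal.Quotient.mk (I.map φ)),
      Ideal.map_isPrime_of_surjective Ideal.Quotient.mk_surjective hle⟩, PrimeSpectrum.ext ?_⟩
    refine Ideal.comap_injective_of_surjective _ Ideal.Quotient.mk_surjective ?_
    rw [PrimeSpectrum.comap_asIdeal, Ideal.comap_comap, Ideal.quotientMap_comp_mk, ← Ideal.comap_comap,
      Ideal.comap_map_of_surjective _ Ideal.Quotient.mk_surjective, ← RingHom.ker_eq_comap_bot,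
      sup_eq_left.2 hle, hQ]

end Groth.Agent.PthRootQuot
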